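import Groth.Agent.Lib.ZarCoh.PushKilled
import Groth.Agent.Lib.Exchange.Thick.Basic
import Groth.Agent.H78.Formal.PullSys
import Groth.Agent.H78.Formal.Extend

/-!
# Pullback on modules killed by an ideal, along a morphism which is an isomorphism on the zero locus
-/

set_option autoImplicit false
set_option linter.style.haveILetI false
universe u

open CategoryTheory CategoryTheory.Limits AlgebraicGeometry Opposite
open Groth.Agent.H78.Formal Groth.Agent.H30.IdealLemmas

namespace Groth.Agent.H21.ThickEquiv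

section general

variable {C D E : Type*} [Category C] [Category D] [Category E]

/-- A left adjoint is bijective on morphisms into an object with invertible unit. -/
theorem bijective_map_of_isIso_unit {L : C ⥤ D} {R : D ⥤ C} (adj : L ⊣ R) (M N : C)
    [IsIso (adj.unit.app N)] : Function.Bijective (L.map : (M ⟶ N) → (L.obj M ⟶ L.obj N)) := by
  have h : (fun φ : M ⟶ N => adj.homEquiv M (L.obj N) (L.map φ)) = fun φ => φ ≫ adj.unit.app N := by
    funext φ
    rw [Adjunction.homEquiv_unit]
    exact (adj.unit.naturality φ).symm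
  have hb : Function.Bijective (fun φ : M ⟶ N => φ ≫ adj.unit.app N) :=
    ⟨fun a b hab => (cancel_mono _).mp hab, fun ψ => ⟨ψ ≫ inv (adj.unit.app N), by simp⟩⟩
  have hb : Function.Bijective (fun φ : M ⟶ N => adj.homEquiv M (L.obj N) (L.map φ)) := by
    rw [h]; exact hb
  have := (adj.homEquiv M (L.obj N)).symm.bijective.comp hb
  simpa [Function.comp_def] using this

theorem bijective_map_of_comp_iso {F : C ⥤ D} {G : D ⥤ E} {H : C ⥤ E} (e : F ⋙ G ≅ H) (M N : C)
    (hH : Function.Bijective (H.map : (M ⟶ N) → _))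
    (hG : Function.Bijective (G.map : (F.obj M ⟶ F.obj N) → _)) :
    Function.Bijective (F.map : (M ⟶ N) → _) := by
  rw [← Function.Bijective.of_comp_iff' hG]
  have h : (G.map ∘ F.map : (M ⟶ N) → _) =
      (fun ψ => e.hom.app M ≫ ψ ≫ e.inv.app N) ∘ H.map := by
    funext φ
    simp only [Function.comp_apply]
    rw [← Category.assoc, ← e.hom.naturality φ, Category.assoc, e.hom_inv_id_app, Category.comp_id]
    rfl
  rw [h]
  refine Function.Bijective.comp ⟨fun a b hab => ?_, fun ψ => ⟨e.inv.app M ≫ ψ ≫ e.hom.app N, by simp⟩⟩ hH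
  simpa using congrArg (fun x => e.inv.app M ≫ x ≫ e.hom.app N) hab

end general

variable {A : Type u} [CommRing A] {I : Ideal A} {X : Scheme.{u}} [X.Over (Spec (CommRingCat.of A))]

/-- The closed subscheme cut out by `I^(n+1)`. -/
noncomputable abbrev level (I : Ideal A) (X : Scheme.{u}) [X.Over (Spec (CommRingCat.of A))] (n : ℕ) :
    Scheme.{u} :=
  pullback (X ↘ Spec (CommRingCat.of A)) (CohB1.specQuot I n)

/-- Its inclusion. -/
noncomputable abbrev incl (I : Ideal A) (X : Scheme.{u}) [X.Over (Spec (CommRingCat.of A))] (n : ℕ) :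
    level I X n ⟶ X :=
  pullback.fst _ _

instance (n : ℕ) : IsClosedImmersion (CohB1.specQuot I n) :=
  IsClosedImmersion.spec_of_surjective _ Ideal.Quotient.mk_surjective

theorem ker_incl_ideal (n : ℕ) (U : X.affineOpens) :
    (incl I X n).ker.ideal U = Sections.sIdeal (I ^ (n + 1)) U.1 := by
  rw [incl, Scheme.IdealSheafData.ker_fst_of_isClosedImmersion, ker_specQuot, idealSpec_pow,
    Groth.Agent.Lib.Ideal.Comap.ideal_comap _ _ ⟨⊤, isAffineOpen_top _⟩ U le_top,
    idealSpec_ideal_top, Ideal.map_map]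
  rfl

theorem killedByIdeal_of_killedBy {n : ℕ} {M : X.Modules} (hM : Coh.IsCoh M)
    (h : _root_.Formal.KilledBy (I ^ (n + 1)) M) : _root_.ClSub.KilledByIdeal (incl I X n).ker M := by
  intro U a ha m
  haveI : M.IsQuasicoherent := hM.1
  rw [ker_incl_ideal] at ha
  have h0 := (Sections.killedBy_iff (I ^ (n + 1))).mp h U.1 U.2
  let m' : Γ(M, U.1) := m
  have h1 : a • m' ∈ Sections.sIdeal (I ^ (n + 1)) U.1 • (⊤ : Submodule Γ(X, U.1) Γ(M, U.1)) :=
    Submodule.smul_mem_smul ha trivial
  rw [h0, Submodule.mem_bot] at h1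
  exact h1

theorem killedBy_pushforward_incl {n : ℕ} (G : (level I X n).Modules)
    (hG : ((Scheme.Modules.pushforward (incl I X n)).obj G).IsQuasicoherent) :
    _root_.Formal.KilledBy (I ^ (n + 1)) ((Scheme.Modules.pushforward (incl I X n)).obj G) := by
  rw [Sections.killedBy_iff]
  intro U hU
  rw [eq_bot_iff, Submodule.smul_le]
  intro a ha s _
  rw [← ker_incl_ideal n ⟨U, hU⟩, Scheme.Hom.ker_apply, RingHom.mem_ker] at ha
  rw [Submodule.mem_bot]
  change @HSMul.hSMul Γ(level I X n, incl I X n ⁻¹ᵁ U) Γ(G, incl I X n ⁻¹ᵁ U) _ _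
    ((incl I X n).app U a) s = 0
  rw [ha, zero_smul]

theorem killedBy_mono {J J' : Ideal A} (h : J' ≤ J) {M : X.Modules}
    (hM : _root_.Formal.KilledBy J M) : _root_.Formal.KilledBy J' M :=
  fun a ha => hM a (h ha)

theorem isEquivalence_pullback {P Q : Scheme.{u}} (g : P ⟶ Q) [IsIso g] :
    (Scheme.Modules.pullback g).IsEquivalence :=
  (CategoryTheory.Equivalence.mk (Scheme.Modules.pullback g) (Scheme.Modules.pullback (inv g))
    ((Scheme.Modules.pullbackId _).symm ≪≫ Scheme.Modules.pullbackCongr (IsIso.inv_hom_id g).symm ≪≫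
      (Scheme.Modules.pullbackComp (inv g) g).symm)
    (Scheme.Modules.pullbackComp g (inv g) ≪≫ Scheme.Modules.pullbackCongr (IsIso.hom_inv_id g) ≪≫
      Scheme.Modules.pullbackId _)).isEquivalence_functor

/-- Modules killed by `I^(n+1)`, coherent. -/
def KC (I : Ideal A) (n : ℕ) (M : X.Modules) : Prop :=
  Coh.IsCoh M ∧ _root_.Formal.KilledBy (I ^ (n + 1)) M

variable {X' : Scheme.{u}} [X'.Over (Spec (CommRingCat.of A))] (f : X' ⟶ X)
  (hf : f ≫ (X ↘ Spec (CommRingCat.of A)) = X' ↘ Spec (CommRingCat.of A))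

/-- The morphism of levels. -/
noncomputable abbrev lev (n : ℕ) : level I X' n ⟶ level I X n :=
  pullback.map (X' ↘ Spec (CommRingCat.of A)) (CohB1.specQuot I n)
    (X ↘ Spec (CommRingCat.of A)) (CohB1.specQuot I n) f (𝟙 _) (𝟙 _)
    ((Category.comp_id _).trans hf.symm) ((Category.comp_id _).trans (Category.id_comp _).symm)

theorem lev_incl (n : ℕ) : lev (I := I) f hf n ≫ incl I X n = incl I X' n ≫ f := pullback.lift_fst _ _ _

/-- Restriction to the levels commutes with pullback. -/
noncomputable def pullIso (n : ℕ) :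
    Scheme.Modules.pullback f ⋙ Scheme.Modules.pullback (incl I X' n) ≅
      Scheme.Modules.pullback (incl I X n) ⋙ Scheme.Modules.pullback (lev (I := I) f hf n) :=
  Scheme.Modules.pullbackComp (incl I X' n) f ≪≫
    Scheme.Modules.pullbackCongr (lev_incl f hf n).symm ≪≫
    (Scheme.Modules.pullbackComp (lev (I := I) f hf n) (incl I X n)).symm

include hf in
theorem kc_obj {n : ℕ} {M : X.Modules} (hM : KC I n M) :
    KC I n ((Scheme.Modules.pullback f).obj M) :=
  ⟨Extend.isCoh_pull f hM.1,
    PullSys.killedBy_obj hf (Scheme.Modules.pullbackPushforwardAdjunction f) hM.2⟩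

variable (hlev : ∀ n, IsIso (lev (I := I) f hf n))
include hlev

/-- Pullback is bijective on morphisms between killed modules. -/
theorem bijective_map {n : ℕ} {M N : X.Modules} (hN : KC I n N) :
    Function.Bijective ((Scheme.Modules.pullback f).map : (M ⟶ N) → _) := by
  haveI := ZarCoh.PushKilled.isIso_unit (incl I X n) N (killedByIdeal_of_killedBy hN.1 hN.2)
  haveI := ZarCoh.PushKilled.isIso_unit (incl I X' n) ((Scheme.Modules.pullback f).obj N)
    (killedByIdeal_of_killedBy (kc_obj f hf hN).1 (kc_obj f hf hN).2)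
  haveI := hlev n
  haveI := isEquivalence_pullback (lev (I := I) f hf n)
  refine bijective_map_of_comp_iso (pullIso f hf n) M N ?_
    (bijective_map_of_isIso_unit (Scheme.Modules.pullbackPushforwardAdjunction (incl I X' n)) _ _)
  exact ((Functor.FullyFaithful.ofFullyFaithful
    (Scheme.Modules.pullback (lev (I := I) f hf n))).map_bijective _ _).comp
    (bijective_map_of_isIso_unit (Scheme.Modules.pullbackPushforwardAdjunction (incl I X n)) M N)

end Groth.Agent.H21.ThickEquiv
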