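import Groth.Agent.H21.ThickEquiv.Iso
import Groth.Agent.H21.ThickEquiv.Killed
import Groth.Agent.Lib.Cyc.Dev.SchemeEquiv

/-!
# Coherent formal modules along a flat morphism which is an isomorphism on the zero locus
-/

set_option autoImplicit false
set_option linter.style.haveILetI false
universe u

open CategoryTheory CategoryTheory.Limits AlgebraicGeometry Opposite
open Groth.Agent.H78.Formal Groth.Agent.Lib

namespace Groth.Agent.H21.ThickEquiv

variable {A : Type u} [CommRing A] {I : Ideal A} {X X' : Scheme.{u}}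
  [X.Over (Spec (CommRingCat.of A))] [X'.Over (Spec (CommRingCat.of A))]

theorem range_specQuot (n : ℕ) :
    Set.range (CohB1.specQuot I n) = PrimeSpectrum.zeroLocus (I : Set A) := by
  refine (range_comap_of_surjective _ _ Ideal.Quotient.mk_surjective).trans ?_
  rw [Ideal.mk_ker, PrimeSpectrum.zeroLocus_pow _ n.succ_ne_zero]

theorem range_incl (n : ℕ) :
    Set.range (incl I X n) = (X ↘ Spec (CommRingCat.of A)) ⁻¹' PrimeSpectrum.zeroLocus (I : Set A) := by
  rw [← range_specQuot n]
  exact Scheme.Pullback.range_fst _ _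

variable (f : X' ⟶ X) (hf : f ≫ (X ↘ Spec (CommRingCat.of A)) = X' ↘ Spec (CommRingCat.of A))

theorem isPullback_lev (n : ℕ) :
    IsPullback (incl I X' n) (lev (I := I) f hf n) f (incl I X n) := by
  refine IsPullback.of_bot ?_ (lev_incl f hf n).symm
    (IsPullback.of_hasPullback (X ↘ Spec (CommRingCat.of A)) (CohB1.specQuot I n))
  rw [pullback.lift_snd, Category.comp_id, hf]
  exact IsPullback.of_hasPullback _ _

/-- The morphisms of levels are isomorphisms. -/
theorem isIso_lev [Flat f] [IsNoetherian X] (h0 : IsIso (lev (I := I) f hf 0)) (n : ℕ) :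
    IsIso (lev (I := I) f hf n) := by
  let t : Spec (CommRingCat.of (A ⧸ I ^ (0 + 1))) ⟶ Spec (CommRingCat.of (A ⧸ I ^ (n + 1))) :=
    Spec.map (CommRingCat.ofHom (Ideal.Quotient.factor (Ideal.pow_le_pow_right (Nat.succ_le_succ (Nat.zero_le n)))))
  have ht : t ≫ CohB1.specQuot I n = CohB1.specQuot I 0 := by
    rw [CohB1.specQuot, CohB1.specQuot, ← Spec.map_comp]
    rfl
  let i : level I X 0 ⟶ level I X n :=
    pullback.lift (incl I X 0) (pullback.snd _ _ ≫ t) (by rw [pullback.condition, Category.assoc, ht])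
  have hi : i ≫ incl I X n = incl I X 0 := pullback.lift_fst _ _ _
  haveI : IsClosedImmersion (i ≫ incl I X n) := by rw [hi]; infer_instance
  haveI : IsClosedImmersion i := IsClosedImmersion.of_comp i (incl I X n)
  haveI : Surjective i := ⟨fun x => by
    have hx : incl I X n x ∈ Set.range (incl I X 0) := by
      rw [range_incl, ← range_incl n]
      exact ⟨x, rfl⟩
    obtain ⟨y, hy⟩ := hx
    refine ⟨y, (incl I X n).isClosedEmbedding.injective ?_⟩
    rw [← Scheme.Hom.comp_apply, hi]
    exact hy⟩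
  haveI : Flat (lev (I := I) f hf n) :=
    MorphismProperty.of_isPullback (P := @Flat) (isPullback_lev f hf n) ‹_›
  haveI : IsLocallyNoetherian (level I X n) := LocallyOfFiniteType.isLocallyNoetherian (incl I X n)
  haveI : IsIso (pullback.snd (lev (I := I) f hf n) i) := by
    have h1 : IsPullback (incl I X' 0) (lev (I := I) f hf 0) f (i ≫ incl I X n) := by
      rw [hi]; exact isPullback_lev f hf 0
    have hw : incl I X' 0 ≫ f = (lev (I := I) f hf 0 ≫ i) ≫ incl I X n := by
      rw [Category.assoc]; exact h1.w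
    have h2 : IsPullback ((isPullback_lev f hf n).lift (incl I X' 0) (lev (I := I) f hf 0 ≫ i) hw)
        (lev (I := I) f hf 0) (lev (I := I) f hf n) i := by
      refine IsPullback.of_right ?_ ((isPullback_lev f hf n).lift_snd _ _ hw) (isPullback_lev f hf n)
      rw [(isPullback_lev f hf n).lift_fst]
      exact h1
    rw [← h2.isoPullback_inv_snd]
    infer_instance
  exact isIso_of_flat _ i

variable (hlev : ∀ n, IsIso (lev (I := I) f hf n))
include hlev

theorem bijective_map' {n : ℕ} {M N : X.Modules} (hN : KC I n N) {m : ℕ} (h : n ≤ m) :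
    Function.Bijective ((Scheme.Modules.pullback f).map : (M ⟶ N) → _) :=
  bijective_map f hf hlev (n := m) (M := M) (N := N)
    ⟨hN.1, killedBy_mono (Ideal.pow_le_pow_right (Nat.succ_le_succ h)) hN.2⟩

variable [IsNoetherian X] [IsNoetherian X']

/-- Every killed coherent module on `X'` comes from `X`. -/
theorem exists_preimage {n : ℕ} {M' : X'.Modules} (hM' : KC I n M') :
    ∃ M : X.Modules, KC I n M ∧ Nonempty ((Scheme.Modules.pullback f).obj M ≅ M') := by
  haveI := hlev n
  let i := incl I X n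
  let i' := incl I X' n
  let l := lev (I := I) f hf n
  haveI := ZarCoh.PushKilled.isIso_unit i' M' (killedByIdeal_of_killedBy hM'.1 hM'.2)
  let N := (Scheme.Modules.pullback i').obj M'
  let N₂ := (Scheme.Modules.pullback (inv l)).obj N
  let M := (Scheme.Modules.pushforward i).obj N₂
  have hN₂ : Coh.IsCoh N₂ := Extend.isCoh_pull _ (Extend.isCoh_pull _ hM'.1)
  have hMc : Coh.IsCoh M := Cyc.Dev.SchemeEquiv.isCoh_push i hN₂
  have hM : KC I n M := ⟨hMc, killedBy_pushforward_incl N₂ hMc.1⟩
  refine ⟨M, hM, ?_⟩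
  haveI := ZarCoh.PushKilled.isIso_unit i' ((Scheme.Modules.pullback f).obj M)
    (killedByIdeal_of_killedBy (kc_obj f hf hM).1 (kc_obj f hf hM).2)
  haveI := Cyc.Dev.SchemeCase.isIso_counit i N₂
  let e : (Scheme.Modules.pullback i').obj ((Scheme.Modules.pullback f).obj M) ≅ N :=
    (pullIso f hf n).app M ≪≫
      (Scheme.Modules.pullback l).mapIso (asIso ((Scheme.Modules.pullbackPushforwardAdjunction i).counit.app N₂)) ≪≫
      ((Scheme.Modules.pullbackComp l (inv l)) ≪≫ Scheme.Modules.pullbackCongr (IsIso.hom_inv_id l) ≪≫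
        Scheme.Modules.pullbackId _).app N
  exact ⟨asIso ((Scheme.Modules.pullbackPushforwardAdjunction i').unit.app ((Scheme.Modules.pullback f).obj M)) ≪≫
    (Scheme.Modules.pushforward i').mapIso e ≪≫
    (asIso ((Scheme.Modules.pullbackPushforwardAdjunction i').unit.app M')).symm⟩

theorem isIso_of_isIso_map {n : ℕ} {P Q : X.Modules} (hP : KC I n P) (hQ : KC I n Q) (φ : P ⟶ Q)
    [IsIso ((Scheme.Modules.pullback f).map φ)] : IsIso φ := by
  obtain ⟨s, hs⟩ := (bijective_map' f hf hlev (M := Q) hP le_rfl).2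
    (inv ((Scheme.Modules.pullback f).map φ))
  refine ⟨s, (bijective_map' f hf hlev (M := P) hP le_rfl).1 ?_,
    (bijective_map' f hf hlev (M := Q) hQ le_rfl).1 ?_⟩
  · rw [Functor.map_comp, hs, IsIso.hom_inv_id]; exact (CategoryTheory.Functor.map_id _ _).symm
  · rw [Functor.map_comp, hs, IsIso.inv_hom_id]; exact (CategoryTheory.Functor.map_id _ _).symm

/-- Full faithfulness on coherent formal modules. -/
theorem bijective_whisker {G₁ G₂ : ℕᵒᵖ ⥤ X.Modules}
    (h₂ : _root_.Formal.IsCohFormal I G₂) :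
    Function.Bijective (fun φ : G₁ ⟶ G₂ => Functor.whiskerRight φ (Scheme.Modules.pullback f)) := by
  have hb : ∀ a b : ℕᵒᵖ, Function.Bijective
      ((Scheme.Modules.pullback f).map : (G₁.obj a ⟶ G₂.obj b) → _) := fun a b =>
    bijective_map' f hf hlev (M := G₁.obj a) ⟨h₂.1 b.unop, h₂.2.1 b.unop⟩ le_rfl
  refine ⟨fun φ ψ h => NatTrans.ext (funext fun a => (hb a a).1 (congr_app h a)), fun ψ => ?_⟩
  choose u hu using fun a => (hb a a).2 (ψ.app a)
  refine ⟨⟨u, fun a b g => (hb a b).1 ?_⟩, NatTrans.ext (funext fun a => hu a)⟩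
  rw [Functor.map_comp, Functor.map_comp, hu, hu]
  exact ψ.naturality g

/-- Essential surjectivity on coherent formal modules. -/
theorem exists_preimage_system {G' : ℕᵒᵖ ⥤ X'.Modules} (hG' : _root_.Formal.IsCohFormal I G') :
    ∃ G : ℕᵒᵖ ⥤ X.Modules, _root_.Formal.IsCohFormal I G ∧
      Nonempty (G ⋙ Scheme.Modules.pullback f ≅ G') := by
  let F := Scheme.Modules.pullback f
  let adj := Scheme.Modules.pullbackPushforwardAdjunction f
  choose M hM e using fun n => exists_preimage f hf hlev (n := n) ⟨hG'.1 n, hG'.2.1 n⟩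
  let ε : ∀ n, F.obj (M n) ≅ G'.obj (op n) := fun n => (e n).some
  choose t ht using fun n => (bijective_map' f hf hlev (M := M (n + 1)) (hM n) le_rfl).2
    ((ε (n + 1)).hom ≫ G'.map (homOfLE (Nat.le_succ n)).op ≫ (ε n).inv)
  let G : ℕᵒᵖ ⥤ X.Modules := Functor.ofOpSequence t
  have hGmap : ∀ n, G.map (homOfLE (Nat.le_succ n)).op = t n := fun n =>
    Functor.ofOpSequence_map_homOfLE_succ t n
  let α : G ⋙ F ⟶ G' := NatTrans.ofOpSequence (fun n => (ε n).hom) fun n => by
    rw [Functor.comp_map, hGmap]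
    refine (congrArg (· ≫ (ε n).hom) (ht n)).trans ?_
    simp
    rfl
  haveI : ∀ a, IsIso (α.app a) := fun a => (ε a.unop).isIso_hom
  haveI := NatIso.isIso_of_isIso_app α
  refine ⟨G, ⟨fun n => (hM n).1, fun n => (hM n).2, fun n => ?_⟩, ⟨asIso α⟩⟩
  rw [hGmap]
  change ∃ h : _root_.Formal.smulFamily (I ^ (n + 1)) (M (n + 1)) ≫ t n = 0,
    IsIso (cokernel.desc _ (t n) h)
  obtain ⟨hz', hiso'⟩ := hG'.2.2 n
  have hF : ∀ a ∈ I ^ (n + 1), F.map (_root_.Formal.smulMod A (M (n + 1)) a ≫ t n) = 0 := by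
    intro a ha
    rw [F.map_comp, ht, PullSys.map_smulMod hf adj, ← Category.assoc, ← Category.assoc,
      Sections.smulMod_comp, Category.assoc (ε (n + 1)).hom, (PullSys.family_comp_iff _).mp hz' a ha,
      comp_zero, zero_comp]
  have hz : _root_.Formal.smulFamily (I ^ (n + 1)) (M (n + 1)) ≫ t n = 0 :=
    (PullSys.family_comp_iff _).mpr fun a ha =>
      (bijective_map' f hf hlev (M := M (n + 1)) (hM n) le_rfl).1 (by
        rw [hF a ha]; exact (F.map_zero _ _).symm)
  refine ⟨hz, ?_⟩
  let π := cokernel.π (_root_.Formal.smulFamily (I ^ (n + 1)) (M (n + 1)))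
  let Q : X.Modules := cokernel (_root_.Formal.smulFamily (I ^ (n + 1)) (M (n + 1)))
  haveI : (M (n + 1)).IsQuasicoherent := (hM (n + 1)).1.1
  have hQ : KC I n Q := ⟨Sections.isCoh_modPow I (n + 1) (hM (n + 1)).1, Compl.killedBy_modPow I (M := M (n + 1)) (n + 1)⟩
  haveI : IsIso (cokernel.desc (_root_.Formal.smulFamily (I ^ (n + 1)) (M (n + 1))) π
      (cokernel.condition _)) := by
    have e : cokernel.desc (_root_.Formal.smulFamily (I ^ (n + 1)) (M (n + 1))) π
        (cokernel.condition _) = 𝟙 _ :=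
      coequalizer.hom_ext ((cokernel.π_desc _ _ _).trans (Category.comp_id _).symm)
    rw [e]
    exact IsIso.id _
  obtain ⟨hπ', hπiso⟩ := PullSys.exists_isIso_desc_map hf adj π (cokernel.condition _)
  have hdesc : F.map π ≫ F.map (cokernel.desc _ (t n) hz) = F.map (t n) := by
    rw [← F.map_comp, cokernel.π_desc]
  obtain ⟨ht', htiso⟩ : ∃ h' : _root_.Formal.smulFamily (I ^ (n + 1)) (F.obj (M (n + 1))) ≫ F.map (t n) = 0,
      IsIso (cokernel.desc _ (F.map (t n)) h') := by
    rw [ht]
    haveI : IsIso (cokernel.desc _ _ hz') := hiso'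
    haveI : Epi (cokernel.desc _ _ hz') := IsIso.epi_of_iso _
    have et : cokernel.π _ ≫ cokernel.desc _ _ hz' = G'.map (homOfLE (Nat.le_succ n)).op :=
      cokernel.π_desc _ _ _
    haveI : Epi (G'.map (homOfLE (Nat.le_succ n)).op) := et ▸ epi_comp _ _
    refine PullSys.exists_isIso_desc_of_factor _ (fun a ha => ?_) fun P φ hφ => ?_
    · rw [← Category.assoc, Sections.smulMod_comp, Category.assoc, ← Category.assoc (_root_.Formal.smulMod A _ a),
        (PullSys.family_comp_iff _).mp hz' a ha, zero_comp, comp_zero]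
    · have hφ' : _root_.Formal.smulFamily (I ^ (n + 1)) (G'.obj (op (n + 1))) ≫
          ((ε (n + 1)).inv ≫ φ) = 0 :=
        (PullSys.family_comp_iff _).mpr fun a ha => by
          rw [← Category.assoc, Sections.smulMod_comp, Category.assoc, hφ a ha, comp_zero]
      refine ⟨(ε n).hom ≫ inv (cokernel.desc _ _ hz') ≫ cokernel.desc _ _ hφ', ?_⟩
      simp only [Category.assoc, Iso.inv_hom_id_assoc]
      rw [← reassoc_of% et, IsIso.hom_inv_id_assoc, cokernel.π_desc, Iso.hom_inv_id_assoc]
  have hfac : cokernel.desc _ (F.map π) hπ' ≫ F.map (cokernel.desc _ (t n) hz) =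
      cokernel.desc _ (F.map (t n)) ht' := by
    apply coequalizer.hom_ext
    erw [cokernel.π_desc_assoc, cokernel.π_desc]
    exact hdesc
  haveI : IsIso (F.map (cokernel.desc _ (t n) hz)) := IsIso.of_isIso_fac_left hfac
  haveI : IsIso ((Scheme.Modules.pullback f).map (cokernel.desc _ (t n) hz)) :=
    ‹IsIso (F.map (cokernel.desc _ (t n) hz))›
  exact isIso_of_isIso_map f hf hlev hQ (hM n) (cokernel.desc _ (t n) hz)

end Groth.Agent.H21.ThickEquiv
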