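import Groth.Agent.H56.FlatMono
import Mathlib.AlgebraicGeometry.Morphisms.Affine
import Mathlib.AlgebraicGeometry.Morphisms.Flat
import Mathlib.AlgebraicGeometry.Noetherian
import Mathlib.RingTheory.TensorProduct.Quotient
import Mathlib.RingTheory.Noetherian.Nilpotent

/-!
# A flat morphism which is an isomorphism over a surjective closed subscheme
-/

set_option autoImplicit false
set_option linter.style.haveILetI false
universe u

open CategoryTheory CategoryTheory.Limits AlgebraicGeometry TensorProduct

namespace Groth.Agent.H21.ThickEquiv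

/-- Nilpotent Nakayama for a ring map. -/
theorem surjective_of_surjective_mod {B C : Type u} [CommRing B] [CommRing C] [Algebra B C]
    (N : Ideal B) (hN : IsNilpotent N)
    (h : ∀ c : C, ∃ b : B, c - algebraMap B C b ∈ N.map (algebraMap B C)) :
    Function.Surjective (algebraMap B C) := by
  have key : ∀ n : ℕ, ∀ c : C, ∃ b : B, c - algebraMap B C b ∈ (N ^ n).map (algebraMap B C) := by
    intro n
    induction n with
    | zero => exact fun c => ⟨0, by rw [pow_zero, Ideal.one_eq_top, Ideal.map_top]; trivial⟩
    | succ n ih =>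
      intro c
      obtain ⟨b, hb⟩ := ih c
      have : ∀ x ∈ (N ^ n).map (algebraMap B C),
          ∃ b : B, x - algebraMap B C b ∈ (N ^ (n + 1)).map (algebraMap B C) := by
        intro x hx
        refine Submodule.span_induction ?_ ⟨0, by simp⟩ ?_ ?_ hx
        · rintro _ ⟨a, ha, rfl⟩
          exact ⟨a, by simp⟩
        · rintro x y - - ⟨b, hb⟩ ⟨b', hb'⟩
          exact ⟨b + b', by rw [map_add, add_sub_add_comm]; exact add_mem hb hb'⟩
        · intro c x hx ⟨b, hb⟩
          obtain ⟨e, he⟩ := h c
          refine ⟨e * b, ?_⟩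
          have hx' : x ∈ (N ^ n).map (algebraMap B C) := hx
          rw [smul_eq_mul, map_mul,
            show c * x - algebraMap B C e * algebraMap B C b =
              (c - algebraMap B C e) * x + algebraMap B C e * (x - algebraMap B C b) by ring]
          refine add_mem ?_ (Ideal.mul_mem_left _ _ hb)
          rw [pow_succ', Ideal.map_mul]
          exact Ideal.mul_mem_mul he hx'
      obtain ⟨b', hb'⟩ := this _ hb
      exact ⟨b + b', by rw [map_add, sub_add_eq_sub_sub]; exact hb'⟩
  obtain ⟨n, hn⟩ := hN
  intro c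
  obtain ⟨b, hb⟩ := key n c
  rw [hn, Ideal.zero_eq_bot, Ideal.map_bot, Ideal.mem_bot, sub_eq_zero] at hb
  exact ⟨b, hb.symm⟩

/-- The affine case. -/
theorem isClosedImmersion_spec {B C : CommRingCat.{u}} [IsNoetherianRing B] (φ : B ⟶ C)
    {P₀ : Scheme.{u}} (i : P₀ ⟶ Spec B) [IsClosedImmersion i] [Surjective i]
    [IsIso (pullback.snd (Spec.map φ) i)] : IsClosedImmersion (Spec.map φ) := by
  obtain ⟨N, e, he⟩ := IsClosedImmersion.Spec_iff.mp ‹IsClosedImmersion i›
  let q : Spec (CommRingCat.of (B ⧸ N)) ⟶ Spec B := Spec.map (CommRingCat.ofHom (Ideal.Quotient.mk N))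
  letI : Algebra B C := φ.hom.toAlgebra
  haveI : Surjective q := by
    have : q = e.inv ≫ i := by rw [he, e.inv_hom_id_assoc]
    rw [this]; infer_instance
  haveI hiso : IsIso (pullback.snd (Spec.map φ) q) := by
    have sq : IsPullback (pullback.fst (Spec.map φ) i) (pullback.snd (Spec.map φ) i ≫ e.hom)
        (Spec.map φ) q :=
      (IsPullback.of_hasPullback (Spec.map φ) i).of_iso (Iso.refl _) (Iso.refl _) e (Iso.refl _)
        (by simp) (by simp) (by simp) (by simpa using he)
    rw [← sq.isoPullback_inv_snd]
    infer_instance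
  have hnil : IsNilpotent N := by
    rw [Ideal.FG.isNilpotent_iff_le_nilradical (IsNoetherian.noetherian N)]
    intro x hx
    rw [nilradical_eq_sInf, Submodule.mem_sInf]
    intro p hp
    obtain ⟨r, hr⟩ := q.surjective ⟨p, hp⟩
    have hp' : p = r.asIdeal.comap (Ideal.Quotient.mk N) := (congrArg PrimeSpectrum.asIdeal hr).symm
    rw [hp', Ideal.mem_comap]
    rw [Ideal.Quotient.eq_zero_iff_mem.mpr hx]
    exact zero_mem _
  have hbij : IsIso (Spec.map (CommRingCat.ofHom
      (Algebra.TensorProduct.includeRight (R := B) (A := C) (B := B ⧸ N)).toRingHom)) := by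
    rw [show Spec.map (CommRingCat.ofHom
      (Algebra.TensorProduct.includeRight (R := B) (A := C) (B := B ⧸ N)).toRingHom) =
        (pullbackSpecIso B C (B ⧸ N)).inv ≫ pullback.snd _ _ from (pullbackSpecIso_inv_snd B C (B ⧸ N)).symm]
    exact IsIso.comp_isIso' inferInstance hiso
  have hb : Function.Bijective
      (Algebra.TensorProduct.includeRight (R := B) (A := C) (B := B ⧸ N)) := by
    let f₁ := CommRingCat.ofHom
      (Algebra.TensorProduct.includeRight (R := B) (A := C) (B := B ⧸ N)).toRingHom
    haveI : IsIso (Scheme.Spec.map f₁.op) := hbij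
    haveI : IsIso f₁ := (isIso_op_iff f₁).mp (isIso_of_fully_faithful Scheme.Spec f₁.op)
    exact ConcreteCategory.bijective_of_isIso (CommRingCat.ofHom
      (Algebra.TensorProduct.includeRight (R := B) (A := C) (B := B ⧸ N)).toRingHom)
  refine IsClosedImmersion.spec_of_surjective φ (surjective_of_surjective_mod N hnil fun c => ?_)
  obtain ⟨b, hb'⟩ := hb.2 (c ⊗ₜ 1)
  obtain ⟨b, rfl⟩ := Ideal.Quotient.mk_surjective b
  refine ⟨b, ?_⟩
  have e1 : (Ideal.Quotient.mk N b) = b • (1 : B ⧸ N) := by
    rw [Algebra.smul_def, mul_one]; rfl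
  rw [Algebra.TensorProduct.includeRight_apply, e1, ← TensorProduct.smul_tmul,
    ← Algebra.algebraMap_eq_smul_one] at hb'
  rw [← Ideal.Quotient.eq]
  refine (Algebra.TensorProduct.quotIdealMapEquivTensorQuot C N).injective ?_
  simp only [Algebra.TensorProduct.quotIdealMapEquivTensorQuot_mk]
  exact hb'.symm

/-- A flat morphism to a locally Noetherian scheme which is an isomorphism over a closed subscheme
with the same space is an isomorphism. -/
theorem isIso_of_flat {P' P P₀ : Scheme.{u}} (g : P' ⟶ P) [IsLocallyNoetherian P] [Flat g]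
    (i : P₀ ⟶ P) [IsClosedImmersion i] [Surjective i] [IsIso (pullback.snd g i)] : IsIso g := by
  let j := pullback.fst g i
  haveI : Surjective j := MorphismProperty.pullback_fst _ _ ‹Surjective i›
  have hj : IsHomeomorph j := isHomeomorph_iff_isEmbedding_surjective.mpr ⟨j.isEmbedding, j.surjective⟩
  have hi : IsHomeomorph i := isHomeomorph_iff_isEmbedding_surjective.mpr ⟨i.isEmbedding, i.surjective⟩
  have hg : IsHomeomorph g := by
    have h1 : IsHomeomorph (i ∘ pullback.snd g i) :=
      hi.comp (Scheme.Hom.homeomorph (pullback.snd g i)).isHomeomorph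
    have h2 : (g : P' → P) = (i ∘ pullback.snd g i) ∘ hj.homeomorph.symm := by
      funext x
      obtain ⟨y, rfl⟩ := j.surjective x
      rw [Function.comp_apply, show hj.homeomorph.symm (j y) = y from hj.homeomorph.symm_apply_apply y,
        Function.comp_apply, ← Scheme.Hom.comp_apply, ← Scheme.Hom.comp_apply, pullback.condition]
    rw [h2]
    exact h1.comp hj.homeomorph.symm.isHomeomorph
  haveI : Surjective g := ⟨hg.surjective⟩
  haveI : IsAffineHom g :=
    isAffineHom_of_isInducing g hg.isEmbedding.isInducing (by rw [hg.surjective.range_eq]; exact isClosed_univ)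
  haveI : IsClosedImmersion g := by
    refine (IsZariskiLocalAtTarget.iff_of_openCover (P := @IsClosedImmersion) P.affineCover).mpr fun a => ?_
    show IsClosedImmersion (pullback.snd g (P.affineCover.f a))
    let v := P.affineCover.f a
    let g₁ := pullback.snd g v
    let i₁ := pullback.fst v i
    haveI : IsAffine (pullback g v) := isAffine_of_isAffineHom g₁
    haveI : IsLocallyNoetherian (P.affineCover.X a) := isLocallyNoetherian_of_isOpenImmersion v
    haveI : Surjective i₁ := MorphismProperty.pullback_fst _ _ ‹Surjective i›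
    haveI : IsNoetherianRing (Γ(P.affineCover.X a, ⊤)) :=
      IsLocallyNoetherian.component_noetherian ⟨⊤, isAffineOpen_top _⟩
    let φ : Γ(P.affineCover.X a, ⊤) ⟶ Γ(pullback g v, ⊤) := g₁.appTop
    let eX := (pullback g v).isoSpec
    let eY := (P.affineCover.X a).isoSpec
    have hφ : g₁ ≫ eY.hom = eX.hom ≫ Spec.map φ := (Scheme.isoSpec_hom_naturality g₁).symm
    haveI hiso : IsIso (pullback.snd g₁ i₁) := by
      have h1 : IsPullback (pullback.fst g₁ i₁ ≫ pullback.fst g v)
          (pullback.snd g₁ i₁) g (i₁ ≫ v) :=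
        (IsPullback.of_hasPullback g₁ i₁).paste_horiz (IsPullback.of_hasPullback g v)
      have hrw : i₁ ≫ v = pullback.snd v i ≫ i := pullback.condition
      rw [hrw] at h1
      have h2 : IsPullback (pullback.lift (pullback.fst g₁ i₁ ≫ pullback.fst g v)
          (pullback.snd g₁ i₁ ≫ pullback.snd v i) (by simpa using h1.w))
          (pullback.snd g₁ i₁) (pullback.snd g i) (pullback.snd v i) := by
        refine IsPullback.of_right ?_ (pullback.lift_snd _ _ _) (IsPullback.of_hasPullback g i)
        rw [pullback.lift_fst]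
        exact h1
      exact MorphismProperty.of_isPullback (P := MorphismProperty.isomorphisms Scheme) h2
        (inferInstanceAs (IsIso (pullback.snd g i)))
    haveI : IsIso (pullback.snd (Spec.map φ) (i₁ ≫ eY.hom)) := by
      have sq : IsPullback (pullback.fst g₁ i₁ ≫ eX.hom) (pullback.snd g₁ i₁) (Spec.map φ) (i₁ ≫ eY.hom) :=
        (IsPullback.of_hasPullback g₁ i₁).of_iso (Iso.refl _) eX (Iso.refl _) eY
          (by simp) (by simp) hφ (by simp)
      rw [← sq.isoPullback_inv_snd]
      infer_instance
    have := isClosedImmersion_spec φ (i₁ ≫ eY.hom)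
    have e : g₁ = eX.hom ≫ Spec.map φ ≫ eY.inv := by
      rw [← Category.assoc, ← hφ, Category.assoc, eY.hom_inv_id, Category.comp_id]
    change IsClosedImmersion g₁
    rw [e]
    infer_instance
  exact H56.FlatMono.isIso_of_flat_mono g

end Groth.Agent.H21.ThickEquiv
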